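import Cfsg.Agent.Lib.Helper33.KS.KDefs
import Cfsg.Agent.S2943
import Cfsg.Agent.S2946
import Cfsg.Agent.S2947
import Cfsg.Agent.S2949
import Cfsg.Agent.S2950
import Cfsg.Agent.S1225

/-!
# K-S 12.3 farm (helper33), piece A2
-/

set_option autoImplicit false
set_option linter.unusedVariables false

namespace Cfsg.Agent.Lib.Helper1.KS

open Subgroup
open Cfsg.Agent.Lib.Helper22 (conjS mem_conjS conjS_mem conjS_mul conjS_one conjS_eq_of_mem_normalizer)
open Cfsg.Agent.Lib.Helper48 (ZN MS)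
open Cfsg.Agent.Lib.Helper33.KS

universe u

variable {G : Type u} [Group G] [Finite G] {M T K L : Subgroup G}

theorem mem_jOvergroups (h : KD M T K L) : L ∈ Cfsg.jOvergroups T := by
  have hLM : ¬ L ≤ M := fun hle => h.hKM ((le_sup_left.trans h.hKL).trans hle)
  exact (h.ms.hstr L T h.hL.1 hLM (Cfsg.Agent.Lib.Helper48.isSylowIn_of_two h.hTL)
    (Cfsg.Agent.Lib.Helper48.thompsonSubgroupOf_le' 2 T)).2.2.2.2

theorem omegaCenterOf_le_Z0 (hT2 : IsPGroup 2 T) : Cfsg.omegaCenterOf T ≤ Z0 T := by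
  unfold Cfsg.omegaCenterOf Cfsg.omegaOne
  rw [closure_le]
  rintro x ⟨hx, hx2⟩
  obtain ⟨hxT, hxC⟩ := mem_inf.1 hx
  obtain ⟨A, hA⟩ := Cfsg.Agent.Lib.Helper48.exists_mea T
  have hxA : x ∈ A := hA.mem_of_commute hxT hx2 (centralizer_le hA.1 hxC)
  exact Cfsg.Agent.Lib.Helper48.JA.mem_Z0 (hA.le_J hxA)
    (centralizer_le (Cfsg.Agent.Lib.Helper48.thompsonSubgroupOf_le' 2 T) hxC) hx2

theorem omegaCenterOf_sylow_le (h : KD M T K L) (S : Sylow 2 G) (hTS : T ≤ S) :
    Cfsg.omegaCenterOf (S : Subgroup G) ≤ Cfsg.omegaCenterOf T := by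
  have hj := mem_jOvergroups h
  have hOT : Cfsg.pCoreOf 2 L ≤ T :=
    Cfsg.Agent.Lib.Helper47.pCoreOf_le_of_isSylowIn (Cfsg.Agent.Lib.Helper48.isSylowIn_of_two h.hTL)
  unfold Cfsg.omegaCenterOf Cfsg.omegaOne
  rw [closure_le]
  rintro x ⟨hx, hx2⟩
  obtain ⟨hxS, hxC⟩ := mem_inf.1 hx
  have h1 : x ∈ centralizer (Cfsg.pCoreOf 2 L : Set G) := centralizer_le (hOT.trans hTS) hxC
  have h2 : x ∈ T := hOT (hj.2.2 h1)
  exact Subgroup.subset_closure ⟨mem_inf.2 ⟨h2, centralizer_le hTS hxC⟩, hx2⟩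

theorem omegaCenterOf_sylow_ne_bot (hO : Cfsg.pCore 2 G = ⊥) (zn : ZN G) (S : Sylow 2 G) :
    Cfsg.omegaCenterOf (S : Subgroup G) ≠ ⊥ := by
  have : Fact (Nat.Prime 2) := ⟨Nat.prime_two⟩
  have heven : 2 ∣ Nat.card G := even_iff_two_dvd.1 zn.hL.1
  have hS : 2 ∣ Nat.card (S : Subgroup G) := by
    rw [S.card_eq_multiplicity]
    apply dvd_pow_self
    intro h0
    have := (Nat.factorization_eq_zero_iff _ _).1 h0
    rcases this with h | h | h
    · exact h Nat.prime_two
    · exact h heven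
    · exact Nat.card_pos.ne' h
  have hnt : Nontrivial (S : Subgroup G) := by
    by_contra hn
    rw [not_nontrivial_iff_subsingleton] at hn
    rw [Nat.card_unique] at hS
    omega
  have hcn : Nontrivial (center (S : Subgroup G)) := S.2.center_nontrivial
  have hc2 : 2 ∣ Nat.card (center (S : Subgroup G)) := by
    obtain ⟨n, hn⟩ := (S.2.to_subgroup (center (S : Subgroup G))).exists_card_eq
    rw [hn]
    apply dvd_pow_self
    rintro rfl
    rw [pow_zero] at hn
    have := Finite.one_lt_card (α := center (S : Subgroup G))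
    omega
  obtain ⟨z, hz⟩ := exists_prime_orderOf_dvd_card' 2 hc2
  intro hbot
  have hmem : ((z : (S : Subgroup G)) : G) ∈ Cfsg.omegaCenterOf (S : Subgroup G) := by
    apply Subgroup.subset_closure
    refine ⟨mem_inf.2 ⟨(z : (S : Subgroup G)).2, ?_⟩, ?_⟩
    · rw [mem_centralizer_iff]
      intro y hy
      have := mem_center_iff.1 z.2 ⟨y, hy⟩
      exact congrArg Subtype.val this
    · have h2 : z ^ 2 = 1 := by
        have := pow_orderOf_eq_one z
        rwa [hz] at this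
      have := congrArg (fun w : center (S : Subgroup G) => ((w : (S : Subgroup G)) : G)) h2
      simpa using this
  rw [hbot, mem_bot] at hmem
  have hz1 : z = 1 := by
    apply Subtype.ext
    apply Subtype.ext
    simpa using hmem
  rw [hz1, orderOf_one] at hz
  omega

end Cfsg.Agent.Lib.Helper1.KS
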