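import Cfsg.Agent.Lib.Helper33.KS.KDefs
import Cfsg.Agent.S2943
import Cfsg.Agent.S2946
import Cfsg.Agent.S2947
import Cfsg.Agent.S2949
import Cfsg.Agent.S2950
import Cfsg.Agent.S1225

/-!
# K-S 12.3 farm (helper33), piece A3
-/

set_option autoImplicit false

namespace Cfsg.Agent.Lib.Helper1.KS

open Subgroup
open Cfsg.Agent.Lib.Helper22 (conjS mem_conjS conjS_mem conjS_mul conjS_one conjS_eq_of_mem_normalizer)
open Cfsg.Agent.Lib.Helper48 (ZN MS)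
open Cfsg.Agent.Lib.Helper33.KS

universe u

variable {G : Type u} [Group G] [Finite G] {M T K L : Subgroup G}

omit [Finite G] in
theorem a3_relIndex_sup {H N : Subgroup G}
    (hLE : H ≤ Subgroup.normalizer (N : Set G)) : N.relIndex (H ⊔ N) = N.relIndex H := by
  let _ := Subgroup.normal_subgroupOf_of_le_normalizer hLE
  let _ := Subgroup.normal_subgroupOf_sup_of_le_normalizer hLE
  exact Nat.card_congr
    (QuotientGroup.quotientInfEquivProdNormalizerQuotient H N hLE).toEquiv.symm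

omit [Finite G] in
theorem a3_card_sup {A B : Subgroup G} (hn : A ≤ normalizer (B : Set G)) (hd : A ⊓ B = ⊥) :
    Nat.card (A ⊔ B : Subgroup G) = Nat.card A * Nat.card B := by
  rw [← relIndex_mul_card (le_sup_right : B ≤ A ⊔ B), a3_relIndex_sup hn, ← inf_relIndex_right,
    inf_comm, hd, relIndex_bot_left]

omit [Finite G] in
theorem a3_YY_eq (T K : Subgroup G) :
    Z0 T ⊓ ((K ⊔ Cfsg.thompsonSubgroupOf 2 T) ⊓
      centralizer ((K : Set G) ⊔ (Cfsg.thompsonSubgroupOf 2 T : Set G))) = YY T K := by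
  apply le_antisymm
  · intro z hz
    obtain ⟨h1, h2⟩ := mem_inf.1 hz
    exact mem_inf.2 ⟨h1, centralizer_le (le_sup_left : (K : Set G) ≤ _) (mem_inf.1 h2).2⟩
  · intro z hz
    obtain ⟨h1, h2⟩ := mem_inf.1 hz
    obtain ⟨h3, h4⟩ := mem_inf.1 (Cfsg.Agent.Lib.Helper48.omegaCenterOf_le _ h1)
    refine mem_inf.2 ⟨h1, mem_inf.2 ⟨(le_sup_right : _ ≤ K ⊔ _) h3, ?_⟩⟩
    rw [mem_centralizer_iff]
    rintro x (hx | hx)
    · exact mem_centralizer_iff.1 h2 x hx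
    · exact mem_centralizer_iff.1 h4 x hx

theorem a3_disjoint (hK : Cfsg.IsJComponent T K) : YY T K ⊓ (Z0 T ⊓ Cfsg.wOf K) = ⊥ := by
  obtain ⟨d, hd⟩ := Cfsg.Agent.Lib.Helper48.exists_jd hK
  rw [eq_bot_iff]
  intro x hx
  obtain ⟨h1, h2⟩ := mem_inf.1 hx
  rw [← hd.wOf_inf_centralizer]
  refine mem_inf.2 ⟨(mem_inf.1 h2).2, ?_⟩
  exact centralizer_le (zpowers_le.2 hd.hdK) (mem_inf.1 h1).2

theorem card_Z0 (zn : ZN G) (hT2 : IsPGroup 2 T) (hT1 : T ≠ ⊥) (hK : Cfsg.IsJComponent T K) :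
    Nat.card (Z0 T) = 2 * Nat.card (YY T K) := by
  obtain ⟨h1, h2⟩ := Cfsg.Agent.S2946.result zn.hL zn.hN zn.hZ T hT2 hT1 K hK (Z0 T) rfl
  rw [a3_YY_eq] at h2
  have hn : YY T K ≤ normalizer ((Z0 T ⊓ Cfsg.wOf K : Subgroup G) : Set G) := by
    have hc : YY T K ≤ centralizer ((Z0 T ⊓ Cfsg.wOf K : Subgroup G) : Set G) := by
      intro y hy
      have hy1 := (mem_inf.1 (Cfsg.Agent.Lib.Helper48.omegaCenterOf_le _ (mem_inf.1 hy).1)).2
      refine centralizer_le ?_ hy1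
      intro x hx
      exact (mem_inf.1 (Cfsg.Agent.Lib.Helper48.omegaCenterOf_le _ (mem_inf.1 hx).1)).1
    exact hc.trans (centralizer_le_normalizer _)
  have h3 := a3_card_sup hn (a3_disjoint hK)
  rw [h2, h1] at h3
  rw [h3, mul_comm]

theorem exists_w (zn : ZN G) (hT2 : IsPGroup 2 T) (hT1 : T ≠ ⊥) (hK : Cfsg.IsJComponent T K) :
    ∃ w ∈ Z0 T ⊓ Cfsg.wOf K, w ≠ 1 ∧ w ∉ centralizer (K : Set G) := by
  obtain ⟨h1, -⟩ := Cfsg.Agent.S2946.result zn.hL zn.hN zn.hZ T hT2 hT1 K hK (Z0 T) rfl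
  have hne : (Z0 T ⊓ Cfsg.wOf K : Subgroup G) ≠ ⊥ := by
    intro hb
    rw [hb, card_bot] at h1
    omega
  obtain ⟨w, hw, hw1⟩ := (Subgroup.ne_bot_iff_exists_ne_one.1 hne : ∃ a : (Z0 T ⊓ Cfsg.wOf K : Subgroup G), a ≠ 1) |> fun ⟨a, ha⟩ => (⟨a.1, a.2, fun h => ha (Subtype.ext h)⟩ : ∃ w ∈ (Z0 T ⊓ Cfsg.wOf K : Subgroup G), w ≠ 1)
  refine ⟨w, hw, hw1, fun hc => hw1 ?_⟩
  have : w ∈ YY T K ⊓ (Z0 T ⊓ Cfsg.wOf K) := mem_inf.2 ⟨mem_inf.2 ⟨(mem_inf.1 hw).1, hc⟩, hw⟩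
  rw [a3_disjoint hK] at this
  exact mem_bot.1 this

end Cfsg.Agent.Lib.Helper1.KS
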