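import Cfsg.Agent.Lib.Helper1.KS.A2
import Cfsg.Agent.Lib.Helper1.KS.A3

/-!
# K-S 12.3 farm (helper33), piece A9
-/

set_option autoImplicit false

namespace Cfsg.Agent.Lib.Helper1.KS

open Subgroup
open Cfsg.Agent.Lib.Helper22 (conjS mem_conjS conjS_mem conjS_mul conjS_one conjS_eq_of_mem_normalizer)
open Cfsg.Agent.Lib.Helper48 (ZN MS)
open Cfsg.Agent.Lib.Helper33.KS

universe u

variable {G : Type u} [Group G] [Finite G] {M T K L : Subgroup G}

theorem T_le_normalizer (h : KD M T K L) (hZ : Z0 T ≤ Cfsg.omegaCenterOf T) :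
    T ≤ normalizer (K : Set G) := by
  have zn := h.ms.zn
  obtain ⟨w, hw, hw1, -⟩ := exists_w zn h.ms.hT2 h.ms.hT1 h.hK
  have hZW : T ⊓ centralizer (T : Set G) ⊓ Cfsg.wOf K ≠ ⊥ := by
    intro hb
    apply hw1
    have : w ∈ T ⊓ centralizer (T : Set G) ⊓ Cfsg.wOf K :=
      mem_inf.2 ⟨Cfsg.Agent.Lib.Helper48.omegaCenterOf_le _ (hZ (mem_inf.1 hw).1), (mem_inf.1 hw).2⟩
    rw [hb] at this
    exact mem_bot.1 this
  exact Cfsg.Agent.S2943.result zn.hL zn.hN zn.hZ T h.ms.hT2 h.ms.hT1 L (mem_jOvergroups h) K h.hK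
    (le_sup_left.trans h.hKL) hZW

/-- `|KT : T| = |K : K ∩ T|` when `T` normalizes `K` -/
theorem a9_relIndex {K T : Subgroup G} (hTK : T ≤ normalizer (K : Set G)) :
    T.relIndex (K ⊔ T) = (K ⊓ T).relIndex K := by
  have h1 : K.relIndex (T ⊔ K) = K.relIndex T := a3_relIndex_sup hTK
  have h2 := relIndex_mul_card (le_sup_right : K ≤ T ⊔ K)
  have h3 := relIndex_mul_card (le_sup_right : T ≤ K ⊔ T)
  have h4 := relIndex_mul_card (inf_le_left : K ⊓ T ≤ K)
  have h5 := relIndex_mul_card (inf_le_right : K ⊓ T ≤ T)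
  rw [inf_relIndex_right] at h5
  rw [h1, sup_comm] at h2
  have hT : 0 < Nat.card T := Nat.card_pos
  have h6 : T.relIndex (K ⊔ T) * Nat.card T = (K ⊓ T).relIndex K * Nat.card T := by
    rw [h3, ← h2, ← h4, ← h5]
    ring
  exact Nat.eq_of_mul_eq_mul_right hT h6

theorem pp_idx3 (h : KD M T K L) (hTK : T ≤ normalizer (K : Set G)) :
    Cfsg.IsSylowTwoIn T (K ⊔ T) ∧ T.relIndex (K ⊔ T) = 3 := by
  have zn := h.ms.zn
  have hKL : K ≤ L := le_sup_left.trans h.hKL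
  have hO1 : Cfsg.pCoreOf 2 K ≤ K := Cfsg.Agent.Lib.Helper49.pCoreOf_le 2 K
  have hO2 : Cfsg.pCoreOf 2 K ≤ T :=
    (Cfsg.Agent.Lib.Helper48.pCoreOf_comp_le zn h.ms.hT1 (mem_jOvergroups h) h.hK hKL).trans
      (Cfsg.Agent.Lib.Helper47.pCoreOf_le_of_isSylowIn
        (Cfsg.Agent.Lib.Helper48.isSylowIn_of_two h.hTL))
  have h3 : (Cfsg.pCoreOf 2 K).relIndex K = 3 := h.hK.2.2.1
  have hmul := relIndex_mul_relIndex (Cfsg.pCoreOf 2 K) (K ⊓ T) K (le_inf hO1 hO2) inf_le_left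
  rw [h3] at hmul
  have hdvd : (K ⊓ T).relIndex K ∣ 3 := Dvd.intro_left _ hmul
  have key : (K ⊓ T).relIndex K = 3 := by
    rcases (Nat.dvd_prime Nat.prime_three).1 hdvd with h1 | h1
    · exfalso
      have hKT : K ≤ T := by
        have := relIndex_eq_one.1 h1
        exact this.trans inf_le_right
      have hK2 : IsPGroup 2 K := h.ms.hT2.to_le hKT
      obtain ⟨n, hn⟩ := hK2.exists_card_eq
      have hd : 3 ∣ Nat.card K := by
        rw [← h3]
        exact relIndex_dvd_card _ _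
      rw [hn] at hd
      have := Nat.Prime.dvd_of_dvd_pow Nat.prime_three hd
      omega
    · exact h1
  have hidx : T.relIndex (K ⊔ T) = 3 := by rw [a9_relIndex hTK, key]
  exact ⟨⟨le_sup_right, h.ms.hT2, by rw [hidx]; decide⟩, hidx⟩

end Cfsg.Agent.Lib.Helper1.KS
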